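import Cfsg.Agent.H47.Fi24.Tab.Data
import Cfsg.Agent.H47.Fi24.Orb.D1

/-!
Suborbit certificates (generated data).
-/

set_option autoImplicit false
set_option maxRecDepth 100000
set_option linter.all false
set_option Elab.async false

namespace H47.Fi24.Orb

open H93.Coset

theorem tree1_22 : otreeOK Tab.data mask1 1 pred1 52800 2400 = true := by decide +kernel

theorem closed1_22 : oclosedOK Tab.data mask1 52800 2400 = true := by decide +kernel

theorem count1_22 : bitCount mask1 52800 2400 = 2030 := by decide +kernel

theorem tree1_23 : otreeOK Tab.data mask1 1 pred1 55200 2400 = true := by decide +kernel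

theorem closed1_23 : oclosedOK Tab.data mask1 55200 2400 = true := by decide +kernel

theorem count1_23 : bitCount mask1 55200 2400 = 2121 := by decide +kernel

theorem tree1_24 : otreeOK Tab.data mask1 1 pred1 57600 2400 = true := by decide +kernel

theorem closed1_24 : oclosedOK Tab.data mask1 57600 2400 = true := by decide +kernel

theorem count1_24 : bitCount mask1 57600 2400 = 2094 := by decide +kernel

theorem tree1_25 : otreeOK Tab.data mask1 1 pred1 60000 2400 = true := by decide +kernel

theorem closed1_25 : oclosedOK Tab.data mask1 60000 2400 = true := by decide +kernel

theorem count1_25 : bitCount mask1 60000 2400 = 1938 := by decide +kernel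

theorem tree1_26 : otreeOK Tab.data mask1 1 pred1 62400 2400 = true := by decide +kernel

theorem closed1_26 : oclosedOK Tab.data mask1 62400 2400 = true := by decide +kernel

theorem count1_26 : bitCount mask1 62400 2400 = 2167 := by decide +kernel

theorem tree1_27 : otreeOK Tab.data mask1 1 pred1 64800 2400 = true := by decide +kernel

theorem closed1_27 : oclosedOK Tab.data mask1 64800 2400 = true := by decide +kernel

theorem count1_27 : bitCount mask1 64800 2400 = 2190 := by decide +kernel

theorem tree1_28 : otreeOK Tab.data mask1 1 pred1 67200 2400 = true := by decide +kernel

theorem closed1_28 : oclosedOK Tab.data mask1 67200 2400 = true := by decide +kernel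

theorem count1_28 : bitCount mask1 67200 2400 = 1983 := by decide +kernel

theorem tree1_29 : otreeOK Tab.data mask1 1 pred1 69600 2400 = true := by decide +kernel

theorem closed1_29 : oclosedOK Tab.data mask1 69600 2400 = true := by decide +kernel

theorem count1_29 : bitCount mask1 69600 2400 = 2092 := by decide +kernel

theorem tree1_30 : otreeOK Tab.data mask1 1 pred1 72000 2400 = true := by decide +kernel

theorem closed1_30 : oclosedOK Tab.data mask1 72000 2400 = true := by decide +kernel

theorem count1_30 : bitCount mask1 72000 2400 = 2168 := by decide +kernel

theorem tree1_31 : otreeOK Tab.data mask1 1 pred1 74400 2400 = true := by decide +kernel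

theorem closed1_31 : oclosedOK Tab.data mask1 74400 2400 = true := by decide +kernel

theorem count1_31 : bitCount mask1 74400 2400 = 1927 := by decide +kernel

theorem tree1_32 : otreeOK Tab.data mask1 1 pred1 76800 2400 = true := by decide +kernel

theorem closed1_32 : oclosedOK Tab.data mask1 76800 2400 = true := by decide +kernel

theorem count1_32 : bitCount mask1 76800 2400 = 2072 := by decide +kernel

theorem tree1_33 : otreeOK Tab.data mask1 1 pred1 79200 2400 = true := by decide +kernel

theorem closed1_33 : oclosedOK Tab.data mask1 79200 2400 = true := by decide +kernel

theorem count1_33 : bitCount mask1 79200 2400 = 2292 := by decide +kernel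

theorem tree1_34 : otreeOK Tab.data mask1 1 pred1 81600 2400 = true := by decide +kernel

theorem closed1_34 : oclosedOK Tab.data mask1 81600 2400 = true := by decide +kernel

theorem count1_34 : bitCount mask1 81600 2400 = 2067 := by decide +kernel

theorem tree1_35 : otreeOK Tab.data mask1 1 pred1 84000 2400 = true := by decide +kernel

theorem closed1_35 : oclosedOK Tab.data mask1 84000 2400 = true := by decide +kernel

theorem count1_35 : bitCount mask1 84000 2400 = 2024 := by decide +kernel

theorem tree1_36 : otreeOK Tab.data mask1 1 pred1 86400 2400 = true := by decide +kernel

theorem closed1_36 : oclosedOK Tab.data mask1 86400 2400 = true := by decide +kernel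

theorem count1_36 : bitCount mask1 86400 2400 = 2132 := by decide +kernel

theorem tree1_37 : otreeOK Tab.data mask1 1 pred1 88800 2400 = true := by decide +kernel

theorem closed1_37 : oclosedOK Tab.data mask1 88800 2400 = true := by decide +kernel

theorem count1_37 : bitCount mask1 88800 2400 = 2180 := by decide +kernel

theorem tree1_38 : otreeOK Tab.data mask1 1 pred1 91200 2400 = true := by decide +kernel

theorem closed1_38 : oclosedOK Tab.data mask1 91200 2400 = true := by decide +kernel

theorem count1_38 : bitCount mask1 91200 2400 = 2019 := by decide +kernel

theorem tree1_39 : otreeOK Tab.data mask1 1 pred1 93600 2400 = true := by decide +kernel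

theorem closed1_39 : oclosedOK Tab.data mask1 93600 2400 = true := by decide +kernel

theorem count1_39 : bitCount mask1 93600 2400 = 2004 := by decide +kernel

theorem tree1_40 : otreeOK Tab.data mask1 1 pred1 96000 2400 = true := by decide +kernel

theorem closed1_40 : oclosedOK Tab.data mask1 96000 2400 = true := by decide +kernel

theorem count1_40 : bitCount mask1 96000 2400 = 2400 := by decide +kernel

theorem tree1_41 : otreeOK Tab.data mask1 1 pred1 98400 2400 = true := by decide +kernel

theorem closed1_41 : oclosedOK Tab.data mask1 98400 2400 = true := by decide +kernel

theorem count1_41 : bitCount mask1 98400 2400 = 2149 := by decide +kernel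

theorem tree1_42 : otreeOK Tab.data mask1 1 pred1 100800 2400 = true := by decide +kernel

theorem closed1_42 : oclosedOK Tab.data mask1 100800 2400 = true := by decide +kernel

theorem count1_42 : bitCount mask1 100800 2400 = 2024 := by decide +kernel

end H47.Fi24.Orb
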