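import Cfsg.Agent.H47.Fi24.Tab.Data
import Cfsg.Agent.H47.Fi24.Orb.D1

/-!
Suborbit certificates (generated data).
-/

set_option autoImplicit false
set_option maxRecDepth 100000
set_option linter.all false
set_option Elab.async false

namespace H47.Fi24.Orb

open H93.Coset

theorem tree1_43 : otreeOK Tab.data mask1 1 pred1 103200 2400 = true := by decide +kernel

theorem closed1_43 : oclosedOK Tab.data mask1 103200 2400 = true := by decide +kernel

theorem count1_43 : bitCount mask1 103200 2400 = 2101 := by decide +kernel

theorem tree1_44 : otreeOK Tab.data mask1 1 pred1 105600 2400 = true := by decide +kernel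

theorem closed1_44 : oclosedOK Tab.data mask1 105600 2400 = true := by decide +kernel

theorem count1_44 : bitCount mask1 105600 2400 = 2243 := by decide +kernel

theorem tree1_45 : otreeOK Tab.data mask1 1 pred1 108000 2400 = true := by decide +kernel

theorem closed1_45 : oclosedOK Tab.data mask1 108000 2400 = true := by decide +kernel

theorem count1_45 : bitCount mask1 108000 2400 = 2111 := by decide +kernel

theorem tree1_46 : otreeOK Tab.data mask1 1 pred1 110400 2400 = true := by decide +kernel

theorem closed1_46 : oclosedOK Tab.data mask1 110400 2400 = true := by decide +kernel

theorem count1_46 : bitCount mask1 110400 2400 = 1984 := by decide +kernel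

theorem tree1_47 : otreeOK Tab.data mask1 1 pred1 112800 2400 = true := by decide +kernel

theorem closed1_47 : oclosedOK Tab.data mask1 112800 2400 = true := by decide +kernel

theorem count1_47 : bitCount mask1 112800 2400 = 2102 := by decide +kernel

theorem tree1_48 : otreeOK Tab.data mask1 1 pred1 115200 2400 = true := by decide +kernel

theorem closed1_48 : oclosedOK Tab.data mask1 115200 2400 = true := by decide +kernel

theorem count1_48 : bitCount mask1 115200 2400 = 2400 := by decide +kernel

theorem tree1_49 : otreeOK Tab.data mask1 1 pred1 117600 2400 = true := by decide +kernel

theorem closed1_49 : oclosedOK Tab.data mask1 117600 2400 = true := by decide +kernel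

theorem count1_49 : bitCount mask1 117600 2400 = 2184 := by decide +kernel

theorem tree1_50 : otreeOK Tab.data mask1 1 pred1 120000 2400 = true := by decide +kernel

theorem closed1_50 : oclosedOK Tab.data mask1 120000 2400 = true := by decide +kernel

theorem count1_50 : bitCount mask1 120000 2400 = 2085 := by decide +kernel

theorem tree1_51 : otreeOK Tab.data mask1 1 pred1 122400 2400 = true := by decide +kernel

theorem closed1_51 : oclosedOK Tab.data mask1 122400 2400 = true := by decide +kernel

theorem count1_51 : bitCount mask1 122400 2400 = 2075 := by decide +kernel

theorem tree1_52 : otreeOK Tab.data mask1 1 pred1 124800 2400 = true := by decide +kernel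

theorem closed1_52 : oclosedOK Tab.data mask1 124800 2400 = true := by decide +kernel

theorem count1_52 : bitCount mask1 124800 2400 = 2273 := by decide +kernel

theorem tree1_53 : otreeOK Tab.data mask1 1 pred1 127200 2400 = true := by decide +kernel

theorem closed1_53 : oclosedOK Tab.data mask1 127200 2400 = true := by decide +kernel

theorem count1_53 : bitCount mask1 127200 2400 = 2315 := by decide +kernel

theorem tree1_54 : otreeOK Tab.data mask1 1 pred1 129600 2400 = true := by decide +kernel

theorem closed1_54 : oclosedOK Tab.data mask1 129600 2400 = true := by decide +kernel

theorem count1_54 : bitCount mask1 129600 2400 = 2055 := by decide +kernel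

theorem tree1_55 : otreeOK Tab.data mask1 1 pred1 132000 2400 = true := by decide +kernel

theorem closed1_55 : oclosedOK Tab.data mask1 132000 2400 = true := by decide +kernel

theorem count1_55 : bitCount mask1 132000 2400 = 2064 := by decide +kernel

theorem tree1_56 : otreeOK Tab.data mask1 1 pred1 134400 2400 = true := by decide +kernel

theorem closed1_56 : oclosedOK Tab.data mask1 134400 2400 = true := by decide +kernel

theorem count1_56 : bitCount mask1 134400 2400 = 2255 := by decide +kernel

theorem tree1_57 : otreeOK Tab.data mask1 1 pred1 136800 2400 = true := by decide +kernel

theorem closed1_57 : oclosedOK Tab.data mask1 136800 2400 = true := by decide +kernel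

theorem count1_57 : bitCount mask1 136800 2400 = 2394 := by decide +kernel

theorem tree1_58 : otreeOK Tab.data mask1 1 pred1 139200 2400 = true := by decide +kernel

theorem closed1_58 : oclosedOK Tab.data mask1 139200 2400 = true := by decide +kernel

theorem count1_58 : bitCount mask1 139200 2400 = 2181 := by decide +kernel

theorem tree1_59 : otreeOK Tab.data mask1 1 pred1 141600 2400 = true := by decide +kernel

theorem closed1_59 : oclosedOK Tab.data mask1 141600 2400 = true := by decide +kernel

theorem count1_59 : bitCount mask1 141600 2400 = 2173 := by decide +kernel

theorem tree1_60 : otreeOK Tab.data mask1 1 pred1 144000 2400 = true := by decide +kernel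

theorem closed1_60 : oclosedOK Tab.data mask1 144000 2400 = true := by decide +kernel

theorem count1_60 : bitCount mask1 144000 2400 = 2065 := by decide +kernel

theorem tree1_61 : otreeOK Tab.data mask1 1 pred1 146400 2400 = true := by decide +kernel

theorem closed1_61 : oclosedOK Tab.data mask1 146400 2400 = true := by decide +kernel

theorem count1_61 : bitCount mask1 146400 2400 = 2320 := by decide +kernel

theorem tree1_62 : otreeOK Tab.data mask1 1 pred1 148800 2400 = true := by decide +kernel

theorem closed1_62 : oclosedOK Tab.data mask1 148800 2400 = true := by decide +kernel

theorem count1_62 : bitCount mask1 148800 2400 = 2329 := by decide +kernel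

theorem tree1_63 : otreeOK Tab.data mask1 1 pred1 151200 2400 = true := by decide +kernel

theorem closed1_63 : oclosedOK Tab.data mask1 151200 2400 = true := by decide +kernel

theorem count1_63 : bitCount mask1 151200 2400 = 2086 := by decide +kernel

end H47.Fi24.Orb
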