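import Cfsg.Agent.H47.Fi24.Tab.Data
import Cfsg.Agent.H47.Fi24.Orb.D1

/-!
Suborbit certificates (generated data).
-/

set_option autoImplicit false
set_option maxRecDepth 100000
set_option linter.all false
set_option Elab.async false

namespace H47.Fi24.Orb

open H93.Coset

theorem tree1_64 : otreeOK Tab.data mask1 1 pred1 153600 2400 = true := by decide +kernel

theorem closed1_64 : oclosedOK Tab.data mask1 153600 2400 = true := by decide +kernel

theorem count1_64 : bitCount mask1 153600 2400 = 2088 := by decide +kernel

theorem tree1_65 : otreeOK Tab.data mask1 1 pred1 156000 2400 = true := by decide +kernel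

theorem closed1_65 : oclosedOK Tab.data mask1 156000 2400 = true := by decide +kernel

theorem count1_65 : bitCount mask1 156000 2400 = 2259 := by decide +kernel

theorem tree1_66 : otreeOK Tab.data mask1 1 pred1 158400 2400 = true := by decide +kernel

theorem closed1_66 : oclosedOK Tab.data mask1 158400 2400 = true := by decide +kernel

theorem count1_66 : bitCount mask1 158400 2400 = 2400 := by decide +kernel

theorem tree1_67 : otreeOK Tab.data mask1 1 pred1 160800 2400 = true := by decide +kernel

theorem closed1_67 : oclosedOK Tab.data mask1 160800 2400 = true := by decide +kernel

theorem count1_67 : bitCount mask1 160800 2400 = 2291 := by decide +kernel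

theorem tree1_68 : otreeOK Tab.data mask1 1 pred1 163200 2400 = true := by decide +kernel

theorem closed1_68 : oclosedOK Tab.data mask1 163200 2400 = true := by decide +kernel

theorem count1_68 : bitCount mask1 163200 2400 = 2231 := by decide +kernel

theorem tree1_69 : otreeOK Tab.data mask1 1 pred1 165600 2400 = true := by decide +kernel

theorem closed1_69 : oclosedOK Tab.data mask1 165600 2400 = true := by decide +kernel

theorem count1_69 : bitCount mask1 165600 2400 = 2100 := by decide +kernel

theorem tree1_70 : otreeOK Tab.data mask1 1 pred1 168000 2400 = true := by decide +kernel

theorem closed1_70 : oclosedOK Tab.data mask1 168000 2400 = true := by decide +kernel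

theorem count1_70 : bitCount mask1 168000 2400 = 2242 := by decide +kernel

theorem tree1_71 : otreeOK Tab.data mask1 1 pred1 170400 2400 = true := by decide +kernel

theorem closed1_71 : oclosedOK Tab.data mask1 170400 2400 = true := by decide +kernel

theorem count1_71 : bitCount mask1 170400 2400 = 2386 := by decide +kernel

theorem tree1_72 : otreeOK Tab.data mask1 1 pred1 172800 2400 = true := by decide +kernel

theorem closed1_72 : oclosedOK Tab.data mask1 172800 2400 = true := by decide +kernel

theorem count1_72 : bitCount mask1 172800 2400 = 2294 := by decide +kernel

theorem tree1_73 : otreeOK Tab.data mask1 1 pred1 175200 2400 = true := by decide +kernel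

theorem closed1_73 : oclosedOK Tab.data mask1 175200 2400 = true := by decide +kernel

theorem count1_73 : bitCount mask1 175200 2400 = 2108 := by decide +kernel

theorem tree1_74 : otreeOK Tab.data mask1 1 pred1 177600 2400 = true := by decide +kernel

theorem closed1_74 : oclosedOK Tab.data mask1 177600 2400 = true := by decide +kernel

theorem count1_74 : bitCount mask1 177600 2400 = 2120 := by decide +kernel

theorem tree1_75 : otreeOK Tab.data mask1 1 pred1 180000 2400 = true := by decide +kernel

theorem closed1_75 : oclosedOK Tab.data mask1 180000 2400 = true := by decide +kernel

theorem count1_75 : bitCount mask1 180000 2400 = 2306 := by decide +kernel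

theorem tree1_76 : otreeOK Tab.data mask1 1 pred1 182400 2400 = true := by decide +kernel

theorem closed1_76 : oclosedOK Tab.data mask1 182400 2400 = true := by decide +kernel

theorem count1_76 : bitCount mask1 182400 2400 = 2400 := by decide +kernel

theorem tree1_77 : otreeOK Tab.data mask1 1 pred1 184800 2400 = true := by decide +kernel

theorem closed1_77 : oclosedOK Tab.data mask1 184800 2400 = true := by decide +kernel

theorem count1_77 : bitCount mask1 184800 2400 = 2352 := by decide +kernel

theorem tree1_78 : otreeOK Tab.data mask1 1 pred1 187200 2400 = true := by decide +kernel

theorem closed1_78 : oclosedOK Tab.data mask1 187200 2400 = true := by decide +kernel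

theorem count1_78 : bitCount mask1 187200 2400 = 2201 := by decide +kernel

theorem tree1_79 : otreeOK Tab.data mask1 1 pred1 189600 2400 = true := by decide +kernel

theorem closed1_79 : oclosedOK Tab.data mask1 189600 2400 = true := by decide +kernel

theorem count1_79 : bitCount mask1 189600 2400 = 2296 := by decide +kernel

theorem tree1_80 : otreeOK Tab.data mask1 1 pred1 192000 2400 = true := by decide +kernel

theorem closed1_80 : oclosedOK Tab.data mask1 192000 2400 = true := by decide +kernel

theorem count1_80 : bitCount mask1 192000 2400 = 2124 := by decide +kernel

theorem tree1_81 : otreeOK Tab.data mask1 1 pred1 194400 2400 = true := by decide +kernel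

theorem closed1_81 : oclosedOK Tab.data mask1 194400 2400 = true := by decide +kernel

theorem count1_81 : bitCount mask1 194400 2400 = 2389 := by decide +kernel

theorem tree1_82 : otreeOK Tab.data mask1 1 pred1 196800 2400 = true := by decide +kernel

theorem closed1_82 : oclosedOK Tab.data mask1 196800 2400 = true := by decide +kernel

theorem count1_82 : bitCount mask1 196800 2400 = 2332 := by decide +kernel

theorem tree1_83 : otreeOK Tab.data mask1 1 pred1 199200 2400 = true := by decide +kernel

theorem closed1_83 : oclosedOK Tab.data mask1 199200 2400 = true := by decide +kernel

theorem count1_83 : bitCount mask1 199200 2400 = 2186 := by decide +kernel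

theorem tree1_84 : otreeOK Tab.data mask1 1 pred1 201600 2400 = true := by decide +kernel

theorem closed1_84 : oclosedOK Tab.data mask1 201600 2400 = true := by decide +kernel

theorem count1_84 : bitCount mask1 201600 2400 = 2223 := by decide +kernel

theorem tree1_85 : otreeOK Tab.data mask1 1 pred1 204000 2400 = true := by decide +kernel

theorem closed1_85 : oclosedOK Tab.data mask1 204000 2400 = true := by decide +kernel

theorem count1_85 : bitCount mask1 204000 2400 = 2165 := by decide +kernel

end H47.Fi24.Orb
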