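import Cfsg.Agent.H47.Fi24.Tab.Data
import Cfsg.Agent.H47.Fi24.Orb.D1

/-!
Suborbit certificates (generated data).
-/

set_option autoImplicit false
set_option maxRecDepth 100000
set_option linter.all false
set_option Elab.async false

namespace H47.Fi24.Orb

open H93.Coset

theorem tree1_86 : otreeOK Tab.data mask1 1 pred1 206400 2400 = true := by decide +kernel

theorem closed1_86 : oclosedOK Tab.data mask1 206400 2400 = true := by decide +kernel

theorem count1_86 : bitCount mask1 206400 2400 = 2394 := by decide +kernel

theorem tree1_87 : otreeOK Tab.data mask1 1 pred1 208800 2400 = true := by decide +kernel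

theorem closed1_87 : oclosedOK Tab.data mask1 208800 2400 = true := by decide +kernel

theorem count1_87 : bitCount mask1 208800 2400 = 2400 := by decide +kernel

theorem tree1_88 : otreeOK Tab.data mask1 1 pred1 211200 2400 = true := by decide +kernel

theorem closed1_88 : oclosedOK Tab.data mask1 211200 2400 = true := by decide +kernel

theorem count1_88 : bitCount mask1 211200 2400 = 2199 := by decide +kernel

theorem tree1_89 : otreeOK Tab.data mask1 1 pred1 213600 2400 = true := by decide +kernel

theorem closed1_89 : oclosedOK Tab.data mask1 213600 2400 = true := by decide +kernel

theorem count1_89 : bitCount mask1 213600 2400 = 2349 := by decide +kernel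

theorem tree1_90 : otreeOK Tab.data mask1 1 pred1 216000 2400 = true := by decide +kernel

theorem closed1_90 : oclosedOK Tab.data mask1 216000 2400 = true := by decide +kernel

theorem count1_90 : bitCount mask1 216000 2400 = 2137 := by decide +kernel

theorem tree1_91 : otreeOK Tab.data mask1 1 pred1 218400 2400 = true := by decide +kernel

theorem closed1_91 : oclosedOK Tab.data mask1 218400 2400 = true := by decide +kernel

theorem count1_91 : bitCount mask1 218400 2400 = 2362 := by decide +kernel

theorem tree1_92 : otreeOK Tab.data mask1 1 pred1 220800 2400 = true := by decide +kernel

theorem closed1_92 : oclosedOK Tab.data mask1 220800 2400 = true := by decide +kernel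

theorem count1_92 : bitCount mask1 220800 2400 = 2400 := by decide +kernel

theorem tree1_93 : otreeOK Tab.data mask1 1 pred1 223200 2400 = true := by decide +kernel

theorem closed1_93 : oclosedOK Tab.data mask1 223200 2400 = true := by decide +kernel

theorem count1_93 : bitCount mask1 223200 2400 = 2312 := by decide +kernel

theorem tree1_94 : otreeOK Tab.data mask1 1 pred1 225600 2400 = true := by decide +kernel

theorem closed1_94 : oclosedOK Tab.data mask1 225600 2400 = true := by decide +kernel

theorem count1_94 : bitCount mask1 225600 2400 = 2139 := by decide +kernel

theorem tree1_95 : otreeOK Tab.data mask1 1 pred1 228000 2400 = true := by decide +kernel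

theorem closed1_95 : oclosedOK Tab.data mask1 228000 2400 = true := by decide +kernel

theorem count1_95 : bitCount mask1 228000 2400 = 2228 := by decide +kernel

theorem tree1_96 : otreeOK Tab.data mask1 1 pred1 230400 2400 = true := by decide +kernel

theorem closed1_96 : oclosedOK Tab.data mask1 230400 2400 = true := by decide +kernel

theorem count1_96 : bitCount mask1 230400 2400 = 2283 := by decide +kernel

theorem tree1_97 : otreeOK Tab.data mask1 1 pred1 232800 2400 = true := by decide +kernel

theorem closed1_97 : oclosedOK Tab.data mask1 232800 2400 = true := by decide +kernel

theorem count1_97 : bitCount mask1 232800 2400 = 2400 := by decide +kernel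

theorem tree1_98 : otreeOK Tab.data mask1 1 pred1 235200 2400 = true := by decide +kernel

theorem closed1_98 : oclosedOK Tab.data mask1 235200 2400 = true := by decide +kernel

theorem count1_98 : bitCount mask1 235200 2400 = 2394 := by decide +kernel

theorem tree1_99 : otreeOK Tab.data mask1 1 pred1 237600 2400 = true := by decide +kernel

theorem closed1_99 : oclosedOK Tab.data mask1 237600 2400 = true := by decide +kernel

theorem count1_99 : bitCount mask1 237600 2400 = 2205 := by decide +kernel

theorem tree1_100 : otreeOK Tab.data mask1 1 pred1 240000 2400 = true := by decide +kernel

theorem closed1_100 : oclosedOK Tab.data mask1 240000 2400 = true := by decide +kernel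

theorem count1_100 : bitCount mask1 240000 2400 = 2294 := by decide +kernel

theorem tree1_101 : otreeOK Tab.data mask1 1 pred1 242400 2400 = true := by decide +kernel

theorem closed1_101 : oclosedOK Tab.data mask1 242400 2400 = true := by decide +kernel

theorem count1_101 : bitCount mask1 242400 2400 = 2172 := by decide +kernel

theorem tree1_102 : otreeOK Tab.data mask1 1 pred1 244800 2400 = true := by decide +kernel

theorem closed1_102 : oclosedOK Tab.data mask1 244800 2400 = true := by decide +kernel

theorem count1_102 : bitCount mask1 244800 2400 = 2397 := by decide +kernel

theorem tree1_103 : otreeOK Tab.data mask1 1 pred1 247200 2400 = true := by decide +kernel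

theorem closed1_103 : oclosedOK Tab.data mask1 247200 2400 = true := by decide +kernel

theorem count1_103 : bitCount mask1 247200 2400 = 2347 := by decide +kernel

theorem tree1_104 : otreeOK Tab.data mask1 1 pred1 249600 2400 = true := by decide +kernel

theorem closed1_104 : oclosedOK Tab.data mask1 249600 2400 = true := by decide +kernel

theorem count1_104 : bitCount mask1 249600 2400 = 2201 := by decide +kernel

theorem tree1_105 : otreeOK Tab.data mask1 1 pred1 252000 2400 = true := by decide +kernel

theorem closed1_105 : oclosedOK Tab.data mask1 252000 2400 = true := by decide +kernel

theorem count1_105 : bitCount mask1 252000 2400 = 2202 := by decide +kernel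

theorem tree1_106 : otreeOK Tab.data mask1 1 pred1 254400 2400 = true := by decide +kernel

theorem closed1_106 : oclosedOK Tab.data mask1 254400 2400 = true := by decide +kernel

theorem count1_106 : bitCount mask1 254400 2400 = 2209 := by decide +kernel

end H47.Fi24.Orb
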