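import Cfsg.Agent.H47.Fi24.Tab.Data
import Cfsg.Agent.H47.Fi24.Orb.D1

/-!
Suborbit certificates (generated data).
-/

set_option autoImplicit false
set_option maxRecDepth 100000
set_option linter.all false
set_option Elab.async false

namespace H47.Fi24.Orb

open H93.Coset

theorem tree1_107 : otreeOK Tab.data mask1 1 pred1 256800 2400 = true := by decide +kernel

theorem closed1_107 : oclosedOK Tab.data mask1 256800 2400 = true := by decide +kernel

theorem count1_107 : bitCount mask1 256800 2400 = 2400 := by decide +kernel

theorem tree1_108 : otreeOK Tab.data mask1 1 pred1 259200 2400 = true := by decide +kernel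

theorem closed1_108 : oclosedOK Tab.data mask1 259200 2400 = true := by decide +kernel

theorem count1_108 : bitCount mask1 259200 2400 = 2400 := by decide +kernel

theorem tree1_109 : otreeOK Tab.data mask1 1 pred1 261600 2400 = true := by decide +kernel

theorem closed1_109 : oclosedOK Tab.data mask1 261600 2400 = true := by decide +kernel

theorem count1_109 : bitCount mask1 261600 2400 = 2195 := by decide +kernel

theorem tree1_110 : otreeOK Tab.data mask1 1 pred1 264000 2400 = true := by decide +kernel

theorem closed1_110 : oclosedOK Tab.data mask1 264000 2400 = true := by decide +kernel

theorem count1_110 : bitCount mask1 264000 2400 = 2123 := by decide +kernel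

theorem tree1_111 : otreeOK Tab.data mask1 1 pred1 266400 2400 = true := by decide +kernel

theorem closed1_111 : oclosedOK Tab.data mask1 266400 2400 = true := by decide +kernel

theorem count1_111 : bitCount mask1 266400 2400 = 2336 := by decide +kernel

theorem tree1_112 : otreeOK Tab.data mask1 1 pred1 268800 2400 = true := by decide +kernel

theorem closed1_112 : oclosedOK Tab.data mask1 268800 2400 = true := by decide +kernel

theorem count1_112 : bitCount mask1 268800 2400 = 2341 := by decide +kernel

theorem tree1_113 : otreeOK Tab.data mask1 1 pred1 271200 2400 = true := by decide +kernel

theorem closed1_113 : oclosedOK Tab.data mask1 271200 2400 = true := by decide +kernel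

theorem count1_113 : bitCount mask1 271200 2400 = 2167 := by decide +kernel

theorem tree1_114 : otreeOK Tab.data mask1 1 pred1 273600 2400 = true := by decide +kernel

theorem closed1_114 : oclosedOK Tab.data mask1 273600 2400 = true := by decide +kernel

theorem count1_114 : bitCount mask1 273600 2400 = 2108 := by decide +kernel

theorem tree1_115 : otreeOK Tab.data mask1 1 pred1 276000 2400 = true := by decide +kernel

theorem closed1_115 : oclosedOK Tab.data mask1 276000 2400 = true := by decide +kernel

theorem count1_115 : bitCount mask1 276000 2400 = 2313 := by decide +kernel

theorem tree1_116 : otreeOK Tab.data mask1 1 pred1 278400 2400 = true := by decide +kernel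

theorem closed1_116 : oclosedOK Tab.data mask1 278400 2400 = true := by decide +kernel

theorem count1_116 : bitCount mask1 278400 2400 = 2400 := by decide +kernel

theorem tree1_117 : otreeOK Tab.data mask1 1 pred1 280800 2400 = true := by decide +kernel

theorem closed1_117 : oclosedOK Tab.data mask1 280800 2400 = true := by decide +kernel

theorem count1_117 : bitCount mask1 280800 2400 = 2137 := by decide +kernel

theorem tree1_118 : otreeOK Tab.data mask1 1 pred1 283200 2400 = true := by decide +kernel

theorem closed1_118 : oclosedOK Tab.data mask1 283200 2400 = true := by decide +kernel

theorem count1_118 : bitCount mask1 283200 2400 = 2149 := by decide +kernel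

theorem tree1_119 : otreeOK Tab.data mask1 1 pred1 285600 2400 = true := by decide +kernel

theorem closed1_119 : oclosedOK Tab.data mask1 285600 2400 = true := by decide +kernel

theorem count1_119 : bitCount mask1 285600 2400 = 2293 := by decide +kernel

theorem tree1_120 : otreeOK Tab.data mask1 1 pred1 288000 2400 = true := by decide +kernel

theorem closed1_120 : oclosedOK Tab.data mask1 288000 2400 = true := by decide +kernel

theorem count1_120 : bitCount mask1 288000 2400 = 1979 := by decide +kernel

theorem tree1_121 : otreeOK Tab.data mask1 1 pred1 290400 2400 = true := by decide +kernel

theorem closed1_121 : oclosedOK Tab.data mask1 290400 2400 = true := by decide +kernel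

theorem count1_121 : bitCount mask1 290400 2400 = 2275 := by decide +kernel

theorem tree1_122 : otreeOK Tab.data mask1 1 pred1 292800 2400 = true := by decide +kernel

theorem closed1_122 : oclosedOK Tab.data mask1 292800 2400 = true := by decide +kernel

theorem count1_122 : bitCount mask1 292800 2400 = 2135 := by decide +kernel

theorem tree1_123 : otreeOK Tab.data mask1 1 pred1 295200 2400 = true := by decide +kernel

theorem closed1_123 : oclosedOK Tab.data mask1 295200 2400 = true := by decide +kernel

theorem count1_123 : bitCount mask1 295200 2400 = 2179 := by decide +kernel

theorem tree1_124 : otreeOK Tab.data mask1 1 pred1 297600 2400 = true := by decide +kernel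

theorem closed1_124 : oclosedOK Tab.data mask1 297600 2400 = true := by decide +kernel

theorem count1_124 : bitCount mask1 297600 2400 = 1894 := by decide +kernel

theorem tree1_125 : otreeOK Tab.data mask1 1 pred1 300000 2400 = true := by decide +kernel

theorem closed1_125 : oclosedOK Tab.data mask1 300000 2400 = true := by decide +kernel

theorem count1_125 : bitCount mask1 300000 2400 = 2111 := by decide +kernel

theorem tree1_126 : otreeOK Tab.data mask1 1 pred1 302400 2400 = true := by decide +kernel

theorem closed1_126 : oclosedOK Tab.data mask1 302400 2400 = true := by decide +kernel

theorem count1_126 : bitCount mask1 302400 2400 = 1883 := by decide +kernel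

theorem tree1_127 : otreeOK Tab.data mask1 1 pred1 304800 2136 = true := by decide +kernel

theorem closed1_127 : oclosedOK Tab.data mask1 304800 2136 = true := by decide +kernel

theorem count1_127 : bitCount mask1 304800 2136 = 944 := by decide +kernel

end H47.Fi24.Orb
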