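import Cfsg.Agent.H47.Fi24.Tab.Data
import Cfsg.Agent.H47.Fi24.Orb.D2

/-!
Suborbit certificates (generated data).
-/

set_option autoImplicit false
set_option maxRecDepth 100000
set_option linter.all false
set_option Elab.async false

namespace H47.Fi24.Orb

open H93.Coset

theorem tree2_0 : otreeOK Tab.data mask2 8 pred2 0 2400 = true := by decide +kernel

theorem closed2_0 : oclosedOK Tab.data mask2 0 2400 = true := by decide +kernel

theorem count2_0 : bitCount mask2 0 2400 = 790 := by decide +kernel

theorem tree2_1 : otreeOK Tab.data mask2 8 pred2 2400 2400 = true := by decide +kernel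

theorem closed2_1 : oclosedOK Tab.data mask2 2400 2400 = true := by decide +kernel

theorem count2_1 : bitCount mask2 2400 2400 = 646 := by decide +kernel

theorem tree2_2 : otreeOK Tab.data mask2 8 pred2 4800 2400 = true := by decide +kernel

theorem closed2_2 : oclosedOK Tab.data mask2 4800 2400 = true := by decide +kernel

theorem count2_2 : bitCount mask2 4800 2400 = 588 := by decide +kernel

theorem tree2_3 : otreeOK Tab.data mask2 8 pred2 7200 2400 = true := by decide +kernel

theorem closed2_3 : oclosedOK Tab.data mask2 7200 2400 = true := by decide +kernel

theorem count2_3 : bitCount mask2 7200 2400 = 559 := by decide +kernel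

theorem tree2_4 : otreeOK Tab.data mask2 8 pred2 9600 2400 = true := by decide +kernel

theorem closed2_4 : oclosedOK Tab.data mask2 9600 2400 = true := by decide +kernel

theorem count2_4 : bitCount mask2 9600 2400 = 519 := by decide +kernel

theorem tree2_5 : otreeOK Tab.data mask2 8 pred2 12000 2400 = true := by decide +kernel

theorem closed2_5 : oclosedOK Tab.data mask2 12000 2400 = true := by decide +kernel

theorem count2_5 : bitCount mask2 12000 2400 = 510 := by decide +kernel

theorem tree2_6 : otreeOK Tab.data mask2 8 pred2 14400 2400 = true := by decide +kernel

theorem closed2_6 : oclosedOK Tab.data mask2 14400 2400 = true := by decide +kernel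

theorem count2_6 : bitCount mask2 14400 2400 = 482 := by decide +kernel

theorem tree2_7 : otreeOK Tab.data mask2 8 pred2 16800 2400 = true := by decide +kernel

theorem closed2_7 : oclosedOK Tab.data mask2 16800 2400 = true := by decide +kernel

theorem count2_7 : bitCount mask2 16800 2400 = 454 := by decide +kernel

theorem tree2_8 : otreeOK Tab.data mask2 8 pred2 19200 2400 = true := by decide +kernel

theorem closed2_8 : oclosedOK Tab.data mask2 19200 2400 = true := by decide +kernel

theorem count2_8 : bitCount mask2 19200 2400 = 415 := by decide +kernel

theorem tree2_9 : otreeOK Tab.data mask2 8 pred2 21600 2400 = true := by decide +kernel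

theorem closed2_9 : oclosedOK Tab.data mask2 21600 2400 = true := by decide +kernel

theorem count2_9 : bitCount mask2 21600 2400 = 398 := by decide +kernel

theorem tree2_10 : otreeOK Tab.data mask2 8 pred2 24000 2400 = true := by decide +kernel

theorem closed2_10 : oclosedOK Tab.data mask2 24000 2400 = true := by decide +kernel

theorem count2_10 : bitCount mask2 24000 2400 = 422 := by decide +kernel

theorem tree2_11 : otreeOK Tab.data mask2 8 pred2 26400 2400 = true := by decide +kernel

theorem closed2_11 : oclosedOK Tab.data mask2 26400 2400 = true := by decide +kernel

theorem count2_11 : bitCount mask2 26400 2400 = 365 := by decide +kernel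

theorem tree2_12 : otreeOK Tab.data mask2 8 pred2 28800 2400 = true := by decide +kernel

theorem closed2_12 : oclosedOK Tab.data mask2 28800 2400 = true := by decide +kernel

theorem count2_12 : bitCount mask2 28800 2400 = 464 := by decide +kernel

theorem tree2_13 : otreeOK Tab.data mask2 8 pred2 31200 2400 = true := by decide +kernel

theorem closed2_13 : oclosedOK Tab.data mask2 31200 2400 = true := by decide +kernel

theorem count2_13 : bitCount mask2 31200 2400 = 312 := by decide +kernel

theorem tree2_14 : otreeOK Tab.data mask2 8 pred2 33600 2400 = true := by decide +kernel

theorem closed2_14 : oclosedOK Tab.data mask2 33600 2400 = true := by decide +kernel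

theorem count2_14 : bitCount mask2 33600 2400 = 342 := by decide +kernel

theorem tree2_15 : otreeOK Tab.data mask2 8 pred2 36000 2400 = true := by decide +kernel

theorem closed2_15 : oclosedOK Tab.data mask2 36000 2400 = true := by decide +kernel

theorem count2_15 : bitCount mask2 36000 2400 = 340 := by decide +kernel

theorem tree2_16 : otreeOK Tab.data mask2 8 pred2 38400 2400 = true := by decide +kernel

theorem closed2_16 : oclosedOK Tab.data mask2 38400 2400 = true := by decide +kernel

theorem count2_16 : bitCount mask2 38400 2400 = 416 := by decide +kernel

theorem tree2_17 : otreeOK Tab.data mask2 8 pred2 40800 2400 = true := by decide +kernel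

theorem closed2_17 : oclosedOK Tab.data mask2 40800 2400 = true := by decide +kernel

theorem count2_17 : bitCount mask2 40800 2400 = 315 := by decide +kernel

theorem tree2_18 : otreeOK Tab.data mask2 8 pred2 43200 2400 = true := by decide +kernel

theorem closed2_18 : oclosedOK Tab.data mask2 43200 2400 = true := by decide +kernel

theorem count2_18 : bitCount mask2 43200 2400 = 340 := by decide +kernel

theorem tree2_19 : otreeOK Tab.data mask2 8 pred2 45600 2400 = true := by decide +kernel

theorem closed2_19 : oclosedOK Tab.data mask2 45600 2400 = true := by decide +kernel

theorem count2_19 : bitCount mask2 45600 2400 = 296 := by decide +kernel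

theorem tree2_20 : otreeOK Tab.data mask2 8 pred2 48000 2400 = true := by decide +kernel

theorem closed2_20 : oclosedOK Tab.data mask2 48000 2400 = true := by decide +kernel

theorem count2_20 : bitCount mask2 48000 2400 = 512 := by decide +kernel

theorem tree2_21 : otreeOK Tab.data mask2 8 pred2 50400 2400 = true := by decide +kernel

theorem closed2_21 : oclosedOK Tab.data mask2 50400 2400 = true := by decide +kernel

theorem count2_21 : bitCount mask2 50400 2400 = 197 := by decide +kernel

end H47.Fi24.Orb
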