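import Cfsg.Agent.H47.Fi24.Tab.Data
import Cfsg.Agent.H47.Fi24.Orb.D2

/-!
Suborbit certificates (generated data).
-/

set_option autoImplicit false
set_option maxRecDepth 100000
set_option linter.all false
set_option Elab.async false

namespace H47.Fi24.Orb

open H93.Coset

theorem tree2_22 : otreeOK Tab.data mask2 8 pred2 52800 2400 = true := by decide +kernel

theorem closed2_22 : oclosedOK Tab.data mask2 52800 2400 = true := by decide +kernel

theorem count2_22 : bitCount mask2 52800 2400 = 370 := by decide +kernel

theorem tree2_23 : otreeOK Tab.data mask2 8 pred2 55200 2400 = true := by decide +kernel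

theorem closed2_23 : oclosedOK Tab.data mask2 55200 2400 = true := by decide +kernel

theorem count2_23 : bitCount mask2 55200 2400 = 279 := by decide +kernel

theorem tree2_24 : otreeOK Tab.data mask2 8 pred2 57600 2400 = true := by decide +kernel

theorem closed2_24 : oclosedOK Tab.data mask2 57600 2400 = true := by decide +kernel

theorem count2_24 : bitCount mask2 57600 2400 = 306 := by decide +kernel

theorem tree2_25 : otreeOK Tab.data mask2 8 pred2 60000 2400 = true := by decide +kernel

theorem closed2_25 : oclosedOK Tab.data mask2 60000 2400 = true := by decide +kernel

theorem count2_25 : bitCount mask2 60000 2400 = 462 := by decide +kernel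

theorem tree2_26 : otreeOK Tab.data mask2 8 pred2 62400 2400 = true := by decide +kernel

theorem closed2_26 : oclosedOK Tab.data mask2 62400 2400 = true := by decide +kernel

theorem count2_26 : bitCount mask2 62400 2400 = 233 := by decide +kernel

theorem tree2_27 : otreeOK Tab.data mask2 8 pred2 64800 2400 = true := by decide +kernel

theorem closed2_27 : oclosedOK Tab.data mask2 64800 2400 = true := by decide +kernel

theorem count2_27 : bitCount mask2 64800 2400 = 210 := by decide +kernel

theorem tree2_28 : otreeOK Tab.data mask2 8 pred2 67200 2400 = true := by decide +kernel

theorem closed2_28 : oclosedOK Tab.data mask2 67200 2400 = true := by decide +kernel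

theorem count2_28 : bitCount mask2 67200 2400 = 417 := by decide +kernel

theorem tree2_29 : otreeOK Tab.data mask2 8 pred2 69600 2400 = true := by decide +kernel

theorem closed2_29 : oclosedOK Tab.data mask2 69600 2400 = true := by decide +kernel

theorem count2_29 : bitCount mask2 69600 2400 = 308 := by decide +kernel

theorem tree2_30 : otreeOK Tab.data mask2 8 pred2 72000 2400 = true := by decide +kernel

theorem closed2_30 : oclosedOK Tab.data mask2 72000 2400 = true := by decide +kernel

theorem count2_30 : bitCount mask2 72000 2400 = 232 := by decide +kernel

theorem tree2_31 : otreeOK Tab.data mask2 8 pred2 74400 2400 = true := by decide +kernel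

theorem closed2_31 : oclosedOK Tab.data mask2 74400 2400 = true := by decide +kernel

theorem count2_31 : bitCount mask2 74400 2400 = 473 := by decide +kernel

theorem tree2_32 : otreeOK Tab.data mask2 8 pred2 76800 2400 = true := by decide +kernel

theorem closed2_32 : oclosedOK Tab.data mask2 76800 2400 = true := by decide +kernel

theorem count2_32 : bitCount mask2 76800 2400 = 328 := by decide +kernel

theorem tree2_33 : otreeOK Tab.data mask2 8 pred2 79200 2400 = true := by decide +kernel

theorem closed2_33 : oclosedOK Tab.data mask2 79200 2400 = true := by decide +kernel

theorem count2_33 : bitCount mask2 79200 2400 = 108 := by decide +kernel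

theorem tree2_34 : otreeOK Tab.data mask2 8 pred2 81600 2400 = true := by decide +kernel

theorem closed2_34 : oclosedOK Tab.data mask2 81600 2400 = true := by decide +kernel

theorem count2_34 : bitCount mask2 81600 2400 = 333 := by decide +kernel

theorem tree2_35 : otreeOK Tab.data mask2 8 pred2 84000 2400 = true := by decide +kernel

theorem closed2_35 : oclosedOK Tab.data mask2 84000 2400 = true := by decide +kernel

theorem count2_35 : bitCount mask2 84000 2400 = 376 := by decide +kernel

theorem tree2_36 : otreeOK Tab.data mask2 8 pred2 86400 2400 = true := by decide +kernel

theorem closed2_36 : oclosedOK Tab.data mask2 86400 2400 = true := by decide +kernel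

theorem count2_36 : bitCount mask2 86400 2400 = 268 := by decide +kernel

theorem tree2_37 : otreeOK Tab.data mask2 8 pred2 88800 2400 = true := by decide +kernel

theorem closed2_37 : oclosedOK Tab.data mask2 88800 2400 = true := by decide +kernel

theorem count2_37 : bitCount mask2 88800 2400 = 220 := by decide +kernel

theorem tree2_38 : otreeOK Tab.data mask2 8 pred2 91200 2400 = true := by decide +kernel

theorem closed2_38 : oclosedOK Tab.data mask2 91200 2400 = true := by decide +kernel

theorem count2_38 : bitCount mask2 91200 2400 = 381 := by decide +kernel

theorem tree2_39 : otreeOK Tab.data mask2 8 pred2 93600 2400 = true := by decide +kernel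

theorem closed2_39 : oclosedOK Tab.data mask2 93600 2400 = true := by decide +kernel

theorem count2_39 : bitCount mask2 93600 2400 = 396 := by decide +kernel

theorem tree2_40 : otreeOK Tab.data mask2 8 pred2 96000 2400 = true := by decide +kernel

theorem closed2_40 : oclosedOK Tab.data mask2 96000 2400 = true := by decide +kernel

theorem count2_40 : bitCount mask2 96000 2400 = 0 := by decide +kernel

theorem tree2_41 : otreeOK Tab.data mask2 8 pred2 98400 2400 = true := by decide +kernel

theorem closed2_41 : oclosedOK Tab.data mask2 98400 2400 = true := by decide +kernel

theorem count2_41 : bitCount mask2 98400 2400 = 251 := by decide +kernel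

theorem tree2_42 : otreeOK Tab.data mask2 8 pred2 100800 2400 = true := by decide +kernel

theorem closed2_42 : oclosedOK Tab.data mask2 100800 2400 = true := by decide +kernel

theorem count2_42 : bitCount mask2 100800 2400 = 376 := by decide +kernel

end H47.Fi24.Orb
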