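import Cfsg.Agent.H47.Fi24.Tab.Data
import Cfsg.Agent.H47.Fi24.Orb.D2

/-!
Suborbit certificates (generated data).
-/

set_option autoImplicit false
set_option maxRecDepth 100000
set_option linter.all false
set_option Elab.async false

namespace H47.Fi24.Orb

open H93.Coset

theorem tree2_43 : otreeOK Tab.data mask2 8 pred2 103200 2400 = true := by decide +kernel

theorem closed2_43 : oclosedOK Tab.data mask2 103200 2400 = true := by decide +kernel

theorem count2_43 : bitCount mask2 103200 2400 = 299 := by decide +kernel

theorem tree2_44 : otreeOK Tab.data mask2 8 pred2 105600 2400 = true := by decide +kernel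

theorem closed2_44 : oclosedOK Tab.data mask2 105600 2400 = true := by decide +kernel

theorem count2_44 : bitCount mask2 105600 2400 = 157 := by decide +kernel

theorem tree2_45 : otreeOK Tab.data mask2 8 pred2 108000 2400 = true := by decide +kernel

theorem closed2_45 : oclosedOK Tab.data mask2 108000 2400 = true := by decide +kernel

theorem count2_45 : bitCount mask2 108000 2400 = 289 := by decide +kernel

theorem tree2_46 : otreeOK Tab.data mask2 8 pred2 110400 2400 = true := by decide +kernel

theorem closed2_46 : oclosedOK Tab.data mask2 110400 2400 = true := by decide +kernel

theorem count2_46 : bitCount mask2 110400 2400 = 416 := by decide +kernel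

theorem tree2_47 : otreeOK Tab.data mask2 8 pred2 112800 2400 = true := by decide +kernel

theorem closed2_47 : oclosedOK Tab.data mask2 112800 2400 = true := by decide +kernel

theorem count2_47 : bitCount mask2 112800 2400 = 298 := by decide +kernel

theorem tree2_48 : otreeOK Tab.data mask2 8 pred2 115200 2400 = true := by decide +kernel

theorem closed2_48 : oclosedOK Tab.data mask2 115200 2400 = true := by decide +kernel

theorem count2_48 : bitCount mask2 115200 2400 = 0 := by decide +kernel

theorem tree2_49 : otreeOK Tab.data mask2 8 pred2 117600 2400 = true := by decide +kernel

theorem closed2_49 : oclosedOK Tab.data mask2 117600 2400 = true := by decide +kernel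

theorem count2_49 : bitCount mask2 117600 2400 = 216 := by decide +kernel

theorem tree2_50 : otreeOK Tab.data mask2 8 pred2 120000 2400 = true := by decide +kernel

theorem closed2_50 : oclosedOK Tab.data mask2 120000 2400 = true := by decide +kernel

theorem count2_50 : bitCount mask2 120000 2400 = 315 := by decide +kernel

theorem tree2_51 : otreeOK Tab.data mask2 8 pred2 122400 2400 = true := by decide +kernel

theorem closed2_51 : oclosedOK Tab.data mask2 122400 2400 = true := by decide +kernel

theorem count2_51 : bitCount mask2 122400 2400 = 325 := by decide +kernel

theorem tree2_52 : otreeOK Tab.data mask2 8 pred2 124800 2400 = true := by decide +kernel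

theorem closed2_52 : oclosedOK Tab.data mask2 124800 2400 = true := by decide +kernel

theorem count2_52 : bitCount mask2 124800 2400 = 127 := by decide +kernel

theorem tree2_53 : otreeOK Tab.data mask2 8 pred2 127200 2400 = true := by decide +kernel

theorem closed2_53 : oclosedOK Tab.data mask2 127200 2400 = true := by decide +kernel

theorem count2_53 : bitCount mask2 127200 2400 = 85 := by decide +kernel

theorem tree2_54 : otreeOK Tab.data mask2 8 pred2 129600 2400 = true := by decide +kernel

theorem closed2_54 : oclosedOK Tab.data mask2 129600 2400 = true := by decide +kernel

theorem count2_54 : bitCount mask2 129600 2400 = 345 := by decide +kernel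

theorem tree2_55 : otreeOK Tab.data mask2 8 pred2 132000 2400 = true := by decide +kernel

theorem closed2_55 : oclosedOK Tab.data mask2 132000 2400 = true := by decide +kernel

theorem count2_55 : bitCount mask2 132000 2400 = 336 := by decide +kernel

theorem tree2_56 : otreeOK Tab.data mask2 8 pred2 134400 2400 = true := by decide +kernel

theorem closed2_56 : oclosedOK Tab.data mask2 134400 2400 = true := by decide +kernel

theorem count2_56 : bitCount mask2 134400 2400 = 145 := by decide +kernel

theorem tree2_57 : otreeOK Tab.data mask2 8 pred2 136800 2400 = true := by decide +kernel

theorem closed2_57 : oclosedOK Tab.data mask2 136800 2400 = true := by decide +kernel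

theorem count2_57 : bitCount mask2 136800 2400 = 6 := by decide +kernel

theorem tree2_58 : otreeOK Tab.data mask2 8 pred2 139200 2400 = true := by decide +kernel

theorem closed2_58 : oclosedOK Tab.data mask2 139200 2400 = true := by decide +kernel

theorem count2_58 : bitCount mask2 139200 2400 = 219 := by decide +kernel

theorem tree2_59 : otreeOK Tab.data mask2 8 pred2 141600 2400 = true := by decide +kernel

theorem closed2_59 : oclosedOK Tab.data mask2 141600 2400 = true := by decide +kernel

theorem count2_59 : bitCount mask2 141600 2400 = 227 := by decide +kernel

theorem tree2_60 : otreeOK Tab.data mask2 8 pred2 144000 2400 = true := by decide +kernel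

theorem closed2_60 : oclosedOK Tab.data mask2 144000 2400 = true := by decide +kernel

theorem count2_60 : bitCount mask2 144000 2400 = 335 := by decide +kernel

theorem tree2_61 : otreeOK Tab.data mask2 8 pred2 146400 2400 = true := by decide +kernel

theorem closed2_61 : oclosedOK Tab.data mask2 146400 2400 = true := by decide +kernel

theorem count2_61 : bitCount mask2 146400 2400 = 80 := by decide +kernel

theorem tree2_62 : otreeOK Tab.data mask2 8 pred2 148800 2400 = true := by decide +kernel

theorem closed2_62 : oclosedOK Tab.data mask2 148800 2400 = true := by decide +kernel

theorem count2_62 : bitCount mask2 148800 2400 = 71 := by decide +kernel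

theorem tree2_63 : otreeOK Tab.data mask2 8 pred2 151200 2400 = true := by decide +kernel

theorem closed2_63 : oclosedOK Tab.data mask2 151200 2400 = true := by decide +kernel

theorem count2_63 : bitCount mask2 151200 2400 = 314 := by decide +kernel

end H47.Fi24.Orb
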