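import Cfsg.Agent.H47.Fi24.Tab.Data
import Cfsg.Agent.H47.Fi24.Orb.D2

/-!
Suborbit certificates (generated data).
-/

set_option autoImplicit false
set_option maxRecDepth 100000
set_option linter.all false
set_option Elab.async false

namespace H47.Fi24.Orb

open H93.Coset

theorem tree2_64 : otreeOK Tab.data mask2 8 pred2 153600 2400 = true := by decide +kernel

theorem closed2_64 : oclosedOK Tab.data mask2 153600 2400 = true := by decide +kernel

theorem count2_64 : bitCount mask2 153600 2400 = 312 := by decide +kernel

theorem tree2_65 : otreeOK Tab.data mask2 8 pred2 156000 2400 = true := by decide +kernel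

theorem closed2_65 : oclosedOK Tab.data mask2 156000 2400 = true := by decide +kernel

theorem count2_65 : bitCount mask2 156000 2400 = 141 := by decide +kernel

theorem tree2_66 : otreeOK Tab.data mask2 8 pred2 158400 2400 = true := by decide +kernel

theorem closed2_66 : oclosedOK Tab.data mask2 158400 2400 = true := by decide +kernel

theorem count2_66 : bitCount mask2 158400 2400 = 0 := by decide +kernel

theorem tree2_67 : otreeOK Tab.data mask2 8 pred2 160800 2400 = true := by decide +kernel

theorem closed2_67 : oclosedOK Tab.data mask2 160800 2400 = true := by decide +kernel

theorem count2_67 : bitCount mask2 160800 2400 = 109 := by decide +kernel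

theorem tree2_68 : otreeOK Tab.data mask2 8 pred2 163200 2400 = true := by decide +kernel

theorem closed2_68 : oclosedOK Tab.data mask2 163200 2400 = true := by decide +kernel

theorem count2_68 : bitCount mask2 163200 2400 = 169 := by decide +kernel

theorem tree2_69 : otreeOK Tab.data mask2 8 pred2 165600 2400 = true := by decide +kernel

theorem closed2_69 : oclosedOK Tab.data mask2 165600 2400 = true := by decide +kernel

theorem count2_69 : bitCount mask2 165600 2400 = 300 := by decide +kernel

theorem tree2_70 : otreeOK Tab.data mask2 8 pred2 168000 2400 = true := by decide +kernel

theorem closed2_70 : oclosedOK Tab.data mask2 168000 2400 = true := by decide +kernel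

theorem count2_70 : bitCount mask2 168000 2400 = 158 := by decide +kernel

theorem tree2_71 : otreeOK Tab.data mask2 8 pred2 170400 2400 = true := by decide +kernel

theorem closed2_71 : oclosedOK Tab.data mask2 170400 2400 = true := by decide +kernel

theorem count2_71 : bitCount mask2 170400 2400 = 14 := by decide +kernel

theorem tree2_72 : otreeOK Tab.data mask2 8 pred2 172800 2400 = true := by decide +kernel

theorem closed2_72 : oclosedOK Tab.data mask2 172800 2400 = true := by decide +kernel

theorem count2_72 : bitCount mask2 172800 2400 = 106 := by decide +kernel

theorem tree2_73 : otreeOK Tab.data mask2 8 pred2 175200 2400 = true := by decide +kernel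

theorem closed2_73 : oclosedOK Tab.data mask2 175200 2400 = true := by decide +kernel

theorem count2_73 : bitCount mask2 175200 2400 = 292 := by decide +kernel

theorem tree2_74 : otreeOK Tab.data mask2 8 pred2 177600 2400 = true := by decide +kernel

theorem closed2_74 : oclosedOK Tab.data mask2 177600 2400 = true := by decide +kernel

theorem count2_74 : bitCount mask2 177600 2400 = 280 := by decide +kernel

theorem tree2_75 : otreeOK Tab.data mask2 8 pred2 180000 2400 = true := by decide +kernel

theorem closed2_75 : oclosedOK Tab.data mask2 180000 2400 = true := by decide +kernel

theorem count2_75 : bitCount mask2 180000 2400 = 94 := by decide +kernel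

theorem tree2_76 : otreeOK Tab.data mask2 8 pred2 182400 2400 = true := by decide +kernel

theorem closed2_76 : oclosedOK Tab.data mask2 182400 2400 = true := by decide +kernel

theorem count2_76 : bitCount mask2 182400 2400 = 0 := by decide +kernel

theorem tree2_77 : otreeOK Tab.data mask2 8 pred2 184800 2400 = true := by decide +kernel

theorem closed2_77 : oclosedOK Tab.data mask2 184800 2400 = true := by decide +kernel

theorem count2_77 : bitCount mask2 184800 2400 = 48 := by decide +kernel

theorem tree2_78 : otreeOK Tab.data mask2 8 pred2 187200 2400 = true := by decide +kernel

theorem closed2_78 : oclosedOK Tab.data mask2 187200 2400 = true := by decide +kernel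

theorem count2_78 : bitCount mask2 187200 2400 = 199 := by decide +kernel

theorem tree2_79 : otreeOK Tab.data mask2 8 pred2 189600 2400 = true := by decide +kernel

theorem closed2_79 : oclosedOK Tab.data mask2 189600 2400 = true := by decide +kernel

theorem count2_79 : bitCount mask2 189600 2400 = 104 := by decide +kernel

theorem tree2_80 : otreeOK Tab.data mask2 8 pred2 192000 2400 = true := by decide +kernel

theorem closed2_80 : oclosedOK Tab.data mask2 192000 2400 = true := by decide +kernel

theorem count2_80 : bitCount mask2 192000 2400 = 276 := by decide +kernel

theorem tree2_81 : otreeOK Tab.data mask2 8 pred2 194400 2400 = true := by decide +kernel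

theorem closed2_81 : oclosedOK Tab.data mask2 194400 2400 = true := by decide +kernel

theorem count2_81 : bitCount mask2 194400 2400 = 11 := by decide +kernel

theorem tree2_82 : otreeOK Tab.data mask2 8 pred2 196800 2400 = true := by decide +kernel

theorem closed2_82 : oclosedOK Tab.data mask2 196800 2400 = true := by decide +kernel

theorem count2_82 : bitCount mask2 196800 2400 = 68 := by decide +kernel

theorem tree2_83 : otreeOK Tab.data mask2 8 pred2 199200 2400 = true := by decide +kernel

theorem closed2_83 : oclosedOK Tab.data mask2 199200 2400 = true := by decide +kernel

theorem count2_83 : bitCount mask2 199200 2400 = 214 := by decide +kernel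

theorem tree2_84 : otreeOK Tab.data mask2 8 pred2 201600 2400 = true := by decide +kernel

theorem closed2_84 : oclosedOK Tab.data mask2 201600 2400 = true := by decide +kernel

theorem count2_84 : bitCount mask2 201600 2400 = 177 := by decide +kernel

theorem tree2_85 : otreeOK Tab.data mask2 8 pred2 204000 2400 = true := by decide +kernel

theorem closed2_85 : oclosedOK Tab.data mask2 204000 2400 = true := by decide +kernel

theorem count2_85 : bitCount mask2 204000 2400 = 235 := by decide +kernel

end H47.Fi24.Orb
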