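import Cfsg.Agent.H47.Fi24.Tab.Data
import Cfsg.Agent.H47.Fi24.Orb.D2

/-!
Suborbit certificates (generated data).
-/

set_option autoImplicit false
set_option maxRecDepth 100000
set_option linter.all false
set_option Elab.async false

namespace H47.Fi24.Orb

open H93.Coset

theorem tree2_86 : otreeOK Tab.data mask2 8 pred2 206400 2400 = true := by decide +kernel

theorem closed2_86 : oclosedOK Tab.data mask2 206400 2400 = true := by decide +kernel

theorem count2_86 : bitCount mask2 206400 2400 = 6 := by decide +kernel

theorem tree2_87 : otreeOK Tab.data mask2 8 pred2 208800 2400 = true := by decide +kernel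

theorem closed2_87 : oclosedOK Tab.data mask2 208800 2400 = true := by decide +kernel

theorem count2_87 : bitCount mask2 208800 2400 = 0 := by decide +kernel

theorem tree2_88 : otreeOK Tab.data mask2 8 pred2 211200 2400 = true := by decide +kernel

theorem closed2_88 : oclosedOK Tab.data mask2 211200 2400 = true := by decide +kernel

theorem count2_88 : bitCount mask2 211200 2400 = 201 := by decide +kernel

theorem tree2_89 : otreeOK Tab.data mask2 8 pred2 213600 2400 = true := by decide +kernel

theorem closed2_89 : oclosedOK Tab.data mask2 213600 2400 = true := by decide +kernel

theorem count2_89 : bitCount mask2 213600 2400 = 51 := by decide +kernel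

theorem tree2_90 : otreeOK Tab.data mask2 8 pred2 216000 2400 = true := by decide +kernel

theorem closed2_90 : oclosedOK Tab.data mask2 216000 2400 = true := by decide +kernel

theorem count2_90 : bitCount mask2 216000 2400 = 263 := by decide +kernel

theorem tree2_91 : otreeOK Tab.data mask2 8 pred2 218400 2400 = true := by decide +kernel

theorem closed2_91 : oclosedOK Tab.data mask2 218400 2400 = true := by decide +kernel

theorem count2_91 : bitCount mask2 218400 2400 = 38 := by decide +kernel

theorem tree2_92 : otreeOK Tab.data mask2 8 pred2 220800 2400 = true := by decide +kernel

theorem closed2_92 : oclosedOK Tab.data mask2 220800 2400 = true := by decide +kernel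

theorem count2_92 : bitCount mask2 220800 2400 = 0 := by decide +kernel

theorem tree2_93 : otreeOK Tab.data mask2 8 pred2 223200 2400 = true := by decide +kernel

theorem closed2_93 : oclosedOK Tab.data mask2 223200 2400 = true := by decide +kernel

theorem count2_93 : bitCount mask2 223200 2400 = 88 := by decide +kernel

theorem tree2_94 : otreeOK Tab.data mask2 8 pred2 225600 2400 = true := by decide +kernel

theorem closed2_94 : oclosedOK Tab.data mask2 225600 2400 = true := by decide +kernel

theorem count2_94 : bitCount mask2 225600 2400 = 261 := by decide +kernel

theorem tree2_95 : otreeOK Tab.data mask2 8 pred2 228000 2400 = true := by decide +kernel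

theorem closed2_95 : oclosedOK Tab.data mask2 228000 2400 = true := by decide +kernel

theorem count2_95 : bitCount mask2 228000 2400 = 172 := by decide +kernel

theorem tree2_96 : otreeOK Tab.data mask2 8 pred2 230400 2400 = true := by decide +kernel

theorem closed2_96 : oclosedOK Tab.data mask2 230400 2400 = true := by decide +kernel

theorem count2_96 : bitCount mask2 230400 2400 = 117 := by decide +kernel

theorem tree2_97 : otreeOK Tab.data mask2 8 pred2 232800 2400 = true := by decide +kernel

theorem closed2_97 : oclosedOK Tab.data mask2 232800 2400 = true := by decide +kernel

theorem count2_97 : bitCount mask2 232800 2400 = 0 := by decide +kernel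

theorem tree2_98 : otreeOK Tab.data mask2 8 pred2 235200 2400 = true := by decide +kernel

theorem closed2_98 : oclosedOK Tab.data mask2 235200 2400 = true := by decide +kernel

theorem count2_98 : bitCount mask2 235200 2400 = 6 := by decide +kernel

theorem tree2_99 : otreeOK Tab.data mask2 8 pred2 237600 2400 = true := by decide +kernel

theorem closed2_99 : oclosedOK Tab.data mask2 237600 2400 = true := by decide +kernel

theorem count2_99 : bitCount mask2 237600 2400 = 195 := by decide +kernel

theorem tree2_100 : otreeOK Tab.data mask2 8 pred2 240000 2400 = true := by decide +kernel

theorem closed2_100 : oclosedOK Tab.data mask2 240000 2400 = true := by decide +kernel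

theorem count2_100 : bitCount mask2 240000 2400 = 106 := by decide +kernel

theorem tree2_101 : otreeOK Tab.data mask2 8 pred2 242400 2400 = true := by decide +kernel

theorem closed2_101 : oclosedOK Tab.data mask2 242400 2400 = true := by decide +kernel

theorem count2_101 : bitCount mask2 242400 2400 = 228 := by decide +kernel

theorem tree2_102 : otreeOK Tab.data mask2 8 pred2 244800 2400 = true := by decide +kernel

theorem closed2_102 : oclosedOK Tab.data mask2 244800 2400 = true := by decide +kernel

theorem count2_102 : bitCount mask2 244800 2400 = 3 := by decide +kernel

theorem tree2_103 : otreeOK Tab.data mask2 8 pred2 247200 2400 = true := by decide +kernel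

theorem closed2_103 : oclosedOK Tab.data mask2 247200 2400 = true := by decide +kernel

theorem count2_103 : bitCount mask2 247200 2400 = 53 := by decide +kernel

theorem tree2_104 : otreeOK Tab.data mask2 8 pred2 249600 2400 = true := by decide +kernel

theorem closed2_104 : oclosedOK Tab.data mask2 249600 2400 = true := by decide +kernel

theorem count2_104 : bitCount mask2 249600 2400 = 199 := by decide +kernel

theorem tree2_105 : otreeOK Tab.data mask2 8 pred2 252000 2400 = true := by decide +kernel

theorem closed2_105 : oclosedOK Tab.data mask2 252000 2400 = true := by decide +kernel

theorem count2_105 : bitCount mask2 252000 2400 = 198 := by decide +kernel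

theorem tree2_106 : otreeOK Tab.data mask2 8 pred2 254400 2400 = true := by decide +kernel

theorem closed2_106 : oclosedOK Tab.data mask2 254400 2400 = true := by decide +kernel

theorem count2_106 : bitCount mask2 254400 2400 = 191 := by decide +kernel

end H47.Fi24.Orb
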