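import Cfsg.Agent.H47.Fi24.Tab.Data
import Cfsg.Agent.H47.Fi24.Orb.D2

/-!
Suborbit certificates (generated data).
-/

set_option autoImplicit false
set_option maxRecDepth 100000
set_option linter.all false
set_option Elab.async false

namespace H47.Fi24.Orb

open H93.Coset

theorem tree2_107 : otreeOK Tab.data mask2 8 pred2 256800 2400 = true := by decide +kernel

theorem closed2_107 : oclosedOK Tab.data mask2 256800 2400 = true := by decide +kernel

theorem count2_107 : bitCount mask2 256800 2400 = 0 := by decide +kernel

theorem tree2_108 : otreeOK Tab.data mask2 8 pred2 259200 2400 = true := by decide +kernel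

theorem closed2_108 : oclosedOK Tab.data mask2 259200 2400 = true := by decide +kernel

theorem count2_108 : bitCount mask2 259200 2400 = 0 := by decide +kernel

theorem tree2_109 : otreeOK Tab.data mask2 8 pred2 261600 2400 = true := by decide +kernel

theorem closed2_109 : oclosedOK Tab.data mask2 261600 2400 = true := by decide +kernel

theorem count2_109 : bitCount mask2 261600 2400 = 205 := by decide +kernel

theorem tree2_110 : otreeOK Tab.data mask2 8 pred2 264000 2400 = true := by decide +kernel

theorem closed2_110 : oclosedOK Tab.data mask2 264000 2400 = true := by decide +kernel

theorem count2_110 : bitCount mask2 264000 2400 = 277 := by decide +kernel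

theorem tree2_111 : otreeOK Tab.data mask2 8 pred2 266400 2400 = true := by decide +kernel

theorem closed2_111 : oclosedOK Tab.data mask2 266400 2400 = true := by decide +kernel

theorem count2_111 : bitCount mask2 266400 2400 = 64 := by decide +kernel

theorem tree2_112 : otreeOK Tab.data mask2 8 pred2 268800 2400 = true := by decide +kernel

theorem closed2_112 : oclosedOK Tab.data mask2 268800 2400 = true := by decide +kernel

theorem count2_112 : bitCount mask2 268800 2400 = 59 := by decide +kernel

theorem tree2_113 : otreeOK Tab.data mask2 8 pred2 271200 2400 = true := by decide +kernel

theorem closed2_113 : oclosedOK Tab.data mask2 271200 2400 = true := by decide +kernel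

theorem count2_113 : bitCount mask2 271200 2400 = 233 := by decide +kernel

theorem tree2_114 : otreeOK Tab.data mask2 8 pred2 273600 2400 = true := by decide +kernel

theorem closed2_114 : oclosedOK Tab.data mask2 273600 2400 = true := by decide +kernel

theorem count2_114 : bitCount mask2 273600 2400 = 292 := by decide +kernel

theorem tree2_115 : otreeOK Tab.data mask2 8 pred2 276000 2400 = true := by decide +kernel

theorem closed2_115 : oclosedOK Tab.data mask2 276000 2400 = true := by decide +kernel

theorem count2_115 : bitCount mask2 276000 2400 = 87 := by decide +kernel

theorem tree2_116 : otreeOK Tab.data mask2 8 pred2 278400 2400 = true := by decide +kernel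

theorem closed2_116 : oclosedOK Tab.data mask2 278400 2400 = true := by decide +kernel

theorem count2_116 : bitCount mask2 278400 2400 = 0 := by decide +kernel

theorem tree2_117 : otreeOK Tab.data mask2 8 pred2 280800 2400 = true := by decide +kernel

theorem closed2_117 : oclosedOK Tab.data mask2 280800 2400 = true := by decide +kernel

theorem count2_117 : bitCount mask2 280800 2400 = 263 := by decide +kernel

theorem tree2_118 : otreeOK Tab.data mask2 8 pred2 283200 2400 = true := by decide +kernel

theorem closed2_118 : oclosedOK Tab.data mask2 283200 2400 = true := by decide +kernel

theorem count2_118 : bitCount mask2 283200 2400 = 251 := by decide +kernel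

theorem tree2_119 : otreeOK Tab.data mask2 8 pred2 285600 2400 = true := by decide +kernel

theorem closed2_119 : oclosedOK Tab.data mask2 285600 2400 = true := by decide +kernel

theorem count2_119 : bitCount mask2 285600 2400 = 107 := by decide +kernel

theorem tree2_120 : otreeOK Tab.data mask2 8 pred2 288000 2400 = true := by decide +kernel

theorem closed2_120 : oclosedOK Tab.data mask2 288000 2400 = true := by decide +kernel

theorem count2_120 : bitCount mask2 288000 2400 = 421 := by decide +kernel

theorem tree2_121 : otreeOK Tab.data mask2 8 pred2 290400 2400 = true := by decide +kernel

theorem closed2_121 : oclosedOK Tab.data mask2 290400 2400 = true := by decide +kernel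

theorem count2_121 : bitCount mask2 290400 2400 = 125 := by decide +kernel

theorem tree2_122 : otreeOK Tab.data mask2 8 pred2 292800 2400 = true := by decide +kernel

theorem closed2_122 : oclosedOK Tab.data mask2 292800 2400 = true := by decide +kernel

theorem count2_122 : bitCount mask2 292800 2400 = 265 := by decide +kernel

theorem tree2_123 : otreeOK Tab.data mask2 8 pred2 295200 2400 = true := by decide +kernel

theorem closed2_123 : oclosedOK Tab.data mask2 295200 2400 = true := by decide +kernel

theorem count2_123 : bitCount mask2 295200 2400 = 221 := by decide +kernel

theorem tree2_124 : otreeOK Tab.data mask2 8 pred2 297600 2400 = true := by decide +kernel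

theorem closed2_124 : oclosedOK Tab.data mask2 297600 2400 = true := by decide +kernel

theorem count2_124 : bitCount mask2 297600 2400 = 506 := by decide +kernel

theorem tree2_125 : otreeOK Tab.data mask2 8 pred2 300000 2400 = true := by decide +kernel

theorem closed2_125 : oclosedOK Tab.data mask2 300000 2400 = true := by decide +kernel

theorem count2_125 : bitCount mask2 300000 2400 = 289 := by decide +kernel

theorem tree2_126 : otreeOK Tab.data mask2 8 pred2 302400 2400 = true := by decide +kernel

theorem closed2_126 : oclosedOK Tab.data mask2 302400 2400 = true := by decide +kernel

theorem count2_126 : bitCount mask2 302400 2400 = 517 := by decide +kernel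

theorem tree2_127 : otreeOK Tab.data mask2 8 pred2 304800 2136 = true := by decide +kernel

theorem closed2_127 : oclosedOK Tab.data mask2 304800 2136 = true := by decide +kernel

theorem count2_127 : bitCount mask2 304800 2136 = 1192 := by decide +kernel

end H47.Fi24.Orb
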