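import Cfsg.Agent.H47.Fi24.Tab.Data
import Cfsg.Agent.H47.Fi24.Orb.D1

/-!
Suborbit certificates (generated data).
-/

set_option autoImplicit false
set_option maxRecDepth 100000
set_option linter.all false
set_option Elab.async false

namespace H47.Fi24.Orb

open H93.Coset

theorem tree1_0 : otreeOK Tab.data mask1 1 pred1 0 2400 = true := by decide +kernel

theorem closed1_0 : oclosedOK Tab.data mask1 0 2400 = true := by decide +kernel

theorem count1_0 : bitCount mask1 0 2400 = 1609 := by decide +kernel

theorem tree1_1 : otreeOK Tab.data mask1 1 pred1 2400 2400 = true := by decide +kernel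

theorem closed1_1 : oclosedOK Tab.data mask1 2400 2400 = true := by decide +kernel

theorem count1_1 : bitCount mask1 2400 2400 = 1754 := by decide +kernel

theorem tree1_2 : otreeOK Tab.data mask1 1 pred1 4800 2400 = true := by decide +kernel

theorem closed1_2 : oclosedOK Tab.data mask1 4800 2400 = true := by decide +kernel

theorem count1_2 : bitCount mask1 4800 2400 = 1812 := by decide +kernel

theorem tree1_3 : otreeOK Tab.data mask1 1 pred1 7200 2400 = true := by decide +kernel

theorem closed1_3 : oclosedOK Tab.data mask1 7200 2400 = true := by decide +kernel

theorem count1_3 : bitCount mask1 7200 2400 = 1841 := by decide +kernel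

theorem tree1_4 : otreeOK Tab.data mask1 1 pred1 9600 2400 = true := by decide +kernel

theorem closed1_4 : oclosedOK Tab.data mask1 9600 2400 = true := by decide +kernel

theorem count1_4 : bitCount mask1 9600 2400 = 1881 := by decide +kernel

theorem tree1_5 : otreeOK Tab.data mask1 1 pred1 12000 2400 = true := by decide +kernel

theorem closed1_5 : oclosedOK Tab.data mask1 12000 2400 = true := by decide +kernel

theorem count1_5 : bitCount mask1 12000 2400 = 1890 := by decide +kernel

theorem tree1_6 : otreeOK Tab.data mask1 1 pred1 14400 2400 = true := by decide +kernel

theorem closed1_6 : oclosedOK Tab.data mask1 14400 2400 = true := by decide +kernel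

theorem count1_6 : bitCount mask1 14400 2400 = 1918 := by decide +kernel

theorem tree1_7 : otreeOK Tab.data mask1 1 pred1 16800 2400 = true := by decide +kernel

theorem closed1_7 : oclosedOK Tab.data mask1 16800 2400 = true := by decide +kernel

theorem count1_7 : bitCount mask1 16800 2400 = 1946 := by decide +kernel

theorem tree1_8 : otreeOK Tab.data mask1 1 pred1 19200 2400 = true := by decide +kernel

theorem closed1_8 : oclosedOK Tab.data mask1 19200 2400 = true := by decide +kernel

theorem count1_8 : bitCount mask1 19200 2400 = 1985 := by decide +kernel

theorem tree1_9 : otreeOK Tab.data mask1 1 pred1 21600 2400 = true := by decide +kernel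

theorem closed1_9 : oclosedOK Tab.data mask1 21600 2400 = true := by decide +kernel

theorem count1_9 : bitCount mask1 21600 2400 = 2002 := by decide +kernel

theorem tree1_10 : otreeOK Tab.data mask1 1 pred1 24000 2400 = true := by decide +kernel

theorem closed1_10 : oclosedOK Tab.data mask1 24000 2400 = true := by decide +kernel

theorem count1_10 : bitCount mask1 24000 2400 = 1978 := by decide +kernel

theorem tree1_11 : otreeOK Tab.data mask1 1 pred1 26400 2400 = true := by decide +kernel

theorem closed1_11 : oclosedOK Tab.data mask1 26400 2400 = true := by decide +kernel

theorem count1_11 : bitCount mask1 26400 2400 = 2035 := by decide +kernel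

theorem tree1_12 : otreeOK Tab.data mask1 1 pred1 28800 2400 = true := by decide +kernel

theorem closed1_12 : oclosedOK Tab.data mask1 28800 2400 = true := by decide +kernel

theorem count1_12 : bitCount mask1 28800 2400 = 1936 := by decide +kernel

theorem tree1_13 : otreeOK Tab.data mask1 1 pred1 31200 2400 = true := by decide +kernel

theorem closed1_13 : oclosedOK Tab.data mask1 31200 2400 = true := by decide +kernel

theorem count1_13 : bitCount mask1 31200 2400 = 2088 := by decide +kernel

theorem tree1_14 : otreeOK Tab.data mask1 1 pred1 33600 2400 = true := by decide +kernel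

theorem closed1_14 : oclosedOK Tab.data mask1 33600 2400 = true := by decide +kernel

theorem count1_14 : bitCount mask1 33600 2400 = 2058 := by decide +kernel

theorem tree1_15 : otreeOK Tab.data mask1 1 pred1 36000 2400 = true := by decide +kernel

theorem closed1_15 : oclosedOK Tab.data mask1 36000 2400 = true := by decide +kernel

theorem count1_15 : bitCount mask1 36000 2400 = 2060 := by decide +kernel

theorem tree1_16 : otreeOK Tab.data mask1 1 pred1 38400 2400 = true := by decide +kernel

theorem closed1_16 : oclosedOK Tab.data mask1 38400 2400 = true := by decide +kernel

theorem count1_16 : bitCount mask1 38400 2400 = 1984 := by decide +kernel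

theorem tree1_17 : otreeOK Tab.data mask1 1 pred1 40800 2400 = true := by decide +kernel

theorem closed1_17 : oclosedOK Tab.data mask1 40800 2400 = true := by decide +kernel

theorem count1_17 : bitCount mask1 40800 2400 = 2085 := by decide +kernel

theorem tree1_18 : otreeOK Tab.data mask1 1 pred1 43200 2400 = true := by decide +kernel

theorem closed1_18 : oclosedOK Tab.data mask1 43200 2400 = true := by decide +kernel

theorem count1_18 : bitCount mask1 43200 2400 = 2060 := by decide +kernel

theorem tree1_19 : otreeOK Tab.data mask1 1 pred1 45600 2400 = true := by decide +kernel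

theorem closed1_19 : oclosedOK Tab.data mask1 45600 2400 = true := by decide +kernel

theorem count1_19 : bitCount mask1 45600 2400 = 2104 := by decide +kernel

theorem tree1_20 : otreeOK Tab.data mask1 1 pred1 48000 2400 = true := by decide +kernel

theorem closed1_20 : oclosedOK Tab.data mask1 48000 2400 = true := by decide +kernel

theorem count1_20 : bitCount mask1 48000 2400 = 1888 := by decide +kernel

theorem tree1_21 : otreeOK Tab.data mask1 1 pred1 50400 2400 = true := by decide +kernel

theorem closed1_21 : oclosedOK Tab.data mask1 50400 2400 = true := by decide +kernel

theorem count1_21 : bitCount mask1 50400 2400 = 2203 := by decide +kernel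

end H47.Fi24.Orb
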